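import Cfsg.Agent.Lib.FusionQuot.ModExtension
import Cfsg.Prelude.Def_Transfer

/-!
# The hyperfocal subgroup of a factor system
-/

set_option autoImplicit false

namespace CfsgLib.FusionAut

open Cfsg Cfsg.FusionSystem CfsgLib.Fusion CfsgLib.FusionQuot

/-- A power of `b` of order prime to `p` lifting `a`. -/
theorem exists_power_coprime {p : ℕ} [Fact p.Prime] {G H : Type*} [Group G] [Finite G] [Group H]
    (b : G) {a : H} (hco : (orderOf a).Coprime p) :
    ∃ k, (orderOf (b ^ k)).Coprime p ∧ a ^ k = a := by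
  have hp := (Fact.out : p.Prime)
  obtain ⟨e, m, hm, hb⟩ := Nat.exists_eq_pow_mul_and_not_dvd (orderOf_pos b).ne' p hp.ne_one
  obtain ⟨k, hk0, hk1⟩ := Nat.chineseRemainder (hco.symm.pow_left e) 0 1
  refine ⟨k, Nat.Coprime.coprime_dvd_left (orderOf_dvd_of_pow_eq_one (n := m) ?_)
    ((hp.coprime_iff_not_dvd.2 hm).symm), ?_⟩
  · rw [← pow_mul, ← orderOf_dvd_iff_pow_eq_one, hb]
    exact Nat.mul_dvd_mul_right (Nat.modEq_zero_iff_dvd.1 hk0) m
  · conv_rhs => rw [← pow_one a]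
    exact pow_eq_pow_iff_modEq.2 hk1

variable {Ω : Type*} [Group Ω] {S : Subgroup Ω} {p : ℕ} [Fact p.Prime]
variable {Ω' : Type*} [Group Ω'] {S' : Subgroup Ω'}

/-- The hyperfocal subgroup lies in a subgroup `M` as soon as the generators coming from
automorphisms of order prime to `p` do. -/
theorem hyperfocalSubgroup_le {F : Cfsg.FusionSystem S} {M : Subgroup Ω}
    (h : ∀ (P : Subgroup Ω) (α : MulAut P), P ≤ S → α ∈ F.autGroup P → (orderOf α).Coprime p →
      ∀ x : P, (x : Ω)⁻¹ * (α x : P) ∈ M) : F.hyperfocalSubgroup p ≤ M := by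
  refine (Subgroup.closure_le _).2 ?_
  rintro _ ⟨P, α, x, hP, hα, rfl⟩
  let N : Subgroup (F.autGroup P) :=
    { carrier := {a | ∀ y : P, (y : Ω)⁻¹ * ((a : MulAut P) y : P) ∈ M}
      one_mem' := fun y => by simp
      mul_mem' := fun {a b} ha hb y => by
        simpa [mul_assoc] using mul_mem (hb y) (ha ((b : MulAut P) y))
      inv_mem' := fun {a} ha y => by
        simpa using inv_mem (ha ((a⁻¹ : MulAut P) y)) }
  have hle : pResidual p (F.autGroup P) ≤ N := (Subgroup.closure_le _).2 fun a ha y =>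
    h P a hP a.2 (by rw [Subgroup.orderOf_coe]; exact ha) y
  exact hle hα x

theorem mem_hyperfocal {F : Cfsg.FusionSystem S} {P : Subgroup Ω} (hP : P ≤ S) {α : MulAut P}
    (hα : α ∈ F.autGroup P) (ho : (orderOf α).Coprime p) (x : P) :
    (x : Ω)⁻¹ * (α x : P) ∈ F.hyperfocalSubgroup p :=
  Subgroup.subset_closure ⟨P, ⟨α, hα⟩, x, hP, Subgroup.subset_closure (by
    show Nat.Coprime (orderOf _) p
    rw [← Subgroup.orderOf_coe]; exact ho), rfl⟩

/-- `hyp(F/T)` is the image of `hyp F`. -/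
theorem hyperfocalSubgroup_factor [Finite S] (hS : IsPGroup p S) {F : Cfsg.FusionSystem S}
    (hF : F.IsSaturated p) {T : Subgroup Ω} (hT : F.StronglyClosed T) (θ : S →* Ω')
    {E : Cfsg.FusionSystem S'} (hE : F.IsFactorSystem T θ E) :
    E.hyperfocalSubgroup p = ((F.hyperfocalSubgroup p).subgroupOf S).map θ := by
  have hmorph := (isSurjectiveMorphism_factor hS hF hT θ E hE).1.2
  obtain ⟨-, -, hr, hmem⟩ := hE
  refine le_antisymm (hyperfocalSubgroup_le fun P' a hP' ha ho y => ?_) ?_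
  · obtain ⟨-, hex⟩ := (hmem _ _).1 ((mem_autGroup_iff_hom hP').1 ha)
    set P := preimageAlong θ P' with hPdef
    obtain ⟨φ, hφ, hi⟩ := hex
    have hPS : P ≤ S := preimageAlong_le P'
    have : Finite P := finite_of_le hPS
    have hval : ∀ (x : P) (hy : θ ⟨x, hPS x.2⟩ ∈ P'),
        θ ⟨φ x, map_mem hφ x⟩ = (a ⟨θ ⟨x, hPS x.2⟩, hy⟩ : Ω') := fun x hy =>
      (induced_apply hi x (hPS x.2) hy (map_mem hφ x)).symm
    obtain ⟨b, hb, hbx⟩ := exists_aut hφ (range_eq_of_le (hom_inj hφ) fun x =>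
      mem_preimageAlong.2 ⟨map_mem hφ x, by
        rw [hval x (mem_preimageAlong.1 x.2).2]; exact (a _).2⟩)
    have hpow : ∀ (n : ℕ) (x : P) (hy : θ ⟨x, hPS x.2⟩ ∈ P'),
        θ ⟨((b ^ n) x : P), hPS ((b ^ n) x).2⟩ = ((a ^ n) ⟨θ ⟨x, hPS x.2⟩, hy⟩ : P') := by
      intro n
      induction n with
      | zero => intro x hy; rfl
      | succ n ih =>
        intro x hy
        have h1 := ih x hy
        have h3 : θ ⟨((b ^ n) x : P), hPS ((b ^ n) x).2⟩ ∈ P' := h1 ▸ Subtype.coe_prop _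
        refine (congrArg θ (Subtype.ext ?_)).trans ((hval ((b ^ n) x) h3).trans ?_)
        · rw [pow_succ', MulAut.mul_apply]
          exact hbx _
        · rw [pow_succ', MulAut.mul_apply]
          exact congrArg (fun t : P' => (a t : Ω')) (Subtype.ext h1)
    have : Finite (MulAut P) := finite_mulAut
    obtain ⟨k, hk, hak⟩ := exists_power_coprime b ho
    obtain ⟨x, hx⟩ : (y : Ω') ∈ θ.range := hr ▸ hP' y.2
    have hxP : (x : Ω) ∈ P := mem_preimageAlong.2 ⟨x.2, by simpa using hx ▸ y.2⟩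
    have hxy : θ ⟨x, hPS hxP⟩ = y := hx
    have hy' : θ ⟨x, hPS hxP⟩ ∈ P' := hxy ▸ y.2
    refine ⟨⟨x, x.2⟩⁻¹ * ⟨((b ^ k) ⟨x, hxP⟩ : P), hPS (Subtype.coe_prop _)⟩,
      mem_hyperfocal hPS (pow_mem hb k) hk ⟨x, hxP⟩, ?_⟩
    rw [map_mul, map_inv, hpow k ⟨x, hxP⟩ hy', hak]
    have e : (⟨θ ⟨x, hPS hxP⟩, hy'⟩ : P') = y := Subtype.ext hxy
    rw [e]
    exact congrArg (fun t => t⁻¹ * _) hxy
  · have hle : F.hyperfocalSubgroup p ≤ ((E.hyperfocalSubgroup p).comap θ).map S.subtype := by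
      refine hyperfocalSubgroup_le fun P a hP ha ho x => ?_
      have : Finite P := finite_of_le hP
      have hex := hmorph P _ ((mem_autGroup_iff_hom hP).1 ha)
      set P' := imageAlong θ P with hPdef
      obtain ⟨φ', hφ', hi⟩ := hex
      have hP' : P' ≤ S' := dom_le hφ'
      have : Finite (P.subgroupOf S) := inferInstance
      have : Finite P' := Finite.Set.finite_image _ _
      have hval : ∀ (z : P), φ' ⟨θ ⟨z, hP z.2⟩, apply_mem_imageAlong _ z.2⟩ =
          θ ⟨(a z : P), hP (a z).2⟩ := fun z => induced_apply hi z _ _ _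
      obtain ⟨a', ha', hax⟩ := exists_aut hφ' (range_eq_of_le (hom_inj hφ') fun y => by
        obtain ⟨s, hsS, hsP, hs⟩ := mem_imageAlong.1 y.2
        have : y = ⟨θ ⟨s, hsS⟩, apply_mem_imageAlong _ hsP⟩ := Subtype.ext hs.symm
        rw [this, hval ⟨s, hsP⟩]
        exact apply_mem_imageAlong _ (a _).2)
      have hpow : ∀ (n : ℕ) (z : P), ((a' ^ n) ⟨θ ⟨z, hP z.2⟩, apply_mem_imageAlong _ z.2⟩ : Ω') =
          θ ⟨((a ^ n) z : P), hP ((a ^ n) z).2⟩ := by
        intro n
        induction n with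
        | zero => intro z; rfl
        | succ n ih =>
          intro z
          rw [pow_succ', MulAut.mul_apply, hax]
          refine (congrArg φ' (Subtype.ext (ih z))).trans ((hval _).trans ?_)
          exact congrArg θ (Subtype.ext (by rw [pow_succ', MulAut.mul_apply]))
      have ho' : (orderOf a').Coprime p := by
        refine Nat.Coprime.coprime_dvd_left (orderOf_dvd_of_pow_eq_one ?_) ho
        refine MulEquiv.ext fun y => Subtype.ext ?_
        obtain ⟨s, hsS, hsP, hs⟩ := mem_imageAlong.1 y.2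
        have e : y = ⟨θ ⟨s, hsS⟩, apply_mem_imageAlong _ hsP⟩ := Subtype.ext hs.symm
        rw [e, hpow _ ⟨s, hsP⟩, pow_orderOf_eq_one]
        rfl
      refine ⟨⟨x, hP x.2⟩⁻¹ * ⟨(a x : P), hP (a x).2⟩, ?_, rfl⟩
      show θ _ ∈ E.hyperfocalSubgroup p
      have := mem_hyperfocal hP' ha' ho' ⟨θ ⟨x, hP x.2⟩, apply_mem_imageAlong _ x.2⟩
      rw [map_mul, map_inv]
      have h1 := hpow 1 x
      rw [pow_one, pow_one] at h1
      rw [← h1]
      exact this
    rintro _ ⟨s, hs, rfl⟩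
    obtain ⟨s', hs', e⟩ := hle hs
    rw [← Subtype.ext e]
    exact hs'

end CfsgLib.FusionAut
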