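import Cfsg.Agent.Lib.FusionAut.Coprime
import Mathlib.GroupTheory.FiniteAbelian.Basic

/-!
# Coprime automorphism groups of abelian `p`-groups
-/

set_option autoImplicit false

namespace CfsgLib.FusionAut

variable {p : ℕ} [Fact p.Prime]

/-- Distinct invariants: the coprime automorphism groups are abelian of exponent `p - 1`. -/
theorem abelian_exponent_of_injective {X : Type*} [CommGroup X] [Finite X] (hX : IsPGroup p X)
    {ι : Type*} [Fintype ι] [DecidableEq ι] {n : ι → ℕ}
    (e : X ≃* ((i : ι) → Multiplicative (ZMod (n i)))) (hn : Function.Injective n)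
    {H : Subgroup (MulAut X)} (hH : (Nat.card H).Coprime p) :
    IsMulCommutative H ∧ ∀ h ∈ H, h ^ (p - 1) = 1 := by
  classical
  have hp := (Fact.out : p.Prime)
  obtain ⟨N, hN⟩ := IsPGroup.iff_card.1 hX
  let g₀ : ι → X := fun i => e.symm (Pi.mulSingle i (Multiplicative.ofAdd 1))
  have hord : ∀ i, orderOf (g₀ i) = n i := by
    intro i
    rw [MulEquiv.orderOf_eq, orderOf_piMulSingle, orderOf_ofAdd_eq_addOrderOf, ZMod.addOrderOf_one]
  have hk : ∀ i, ∃ k, k ≤ N ∧ n i = p ^ k := fun i =>
    (Nat.dvd_prime_pow hp).1 (hN ▸ hord i ▸ orderOf_dvd_natCard _)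
  choose k hkN hk using hk
  have hkinj : ∀ i j, k i = k j → i = j := fun i j h => hn (by rw [hk, hk, h])
  let π : ι → X →* X := fun i => e.symm.toMonoidHom.comp
    ((MonoidHom.mulSingle _ i).comp ((Pi.evalMonoidHom _ i).comp e.toMonoidHom))
  have hprod : ∀ y, ∏ i, π i y = y := by
    intro y
    show ∏ i, e.symm (Pi.mulSingle i (e y i)) = y
    rw [← map_prod, Finset.univ_prod_mulSingle, MulEquiv.symm_apply_apply]
  have hπ : ∀ i y, ∃ z : ℤ, π i y = g₀ i ^ z := by
    intro i y
    obtain ⟨z, hz⟩ := ZMod.intCast_surjective (Multiplicative.toAdd (e y i))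
    refine ⟨z, ?_⟩
    show e.symm (Pi.mulSingle i (e y i)) = e.symm (Pi.mulSingle i (Multiplicative.ofAdd 1)) ^ z
    rw [← map_zpow]
    congr 1
    rw [← Pi.mulSingle_zpow, ← ofAdd_zsmul, zsmul_one, hz]
    rfl
  let T : ℕ → Subgroup X := fun a => (powMonoidHom (p ^ a)).ker
  let P : ℕ → Subgroup X := fun b => (powMonoidHom (p ^ b)).range
  have hT : ∀ {a : ℕ} {y : X}, y ∈ T a ↔ y ^ p ^ a = 1 := Iff.rfl
  have hP : ∀ {b : ℕ} {y : X}, y ∈ P b ↔ ∃ z, z ^ p ^ b = y := Iff.rfl
  have hTinv : ∀ (h : MulAut X) {a : ℕ} {y : X}, y ∈ T a → h y ∈ T a := fun h a y hy => by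
    rw [hT, ← map_pow, hT.1 hy, map_one]
  have hPinv : ∀ (h : MulAut X) {b : ℕ} {y : X}, y ∈ P b → h y ∈ P b := fun h b y hy => by
    obtain ⟨z, rfl⟩ := hP.1 hy
    exact hP.2 ⟨h z, (map_pow h z _).symm⟩
  refine abelian_exponent_of_abExp_trivial fun g hg => ?_
  have key : ∀ a : ℕ, ∀ y ∈ T a, g y = y := by
    intro a
    induction a with
    | zero =>
      intro y hy
      rw [hT, pow_zero, pow_one] at hy
      rw [hy, map_one]
    | succ a ih =>
      have inner : ∀ j b, N ≤ b + j → ∀ y ∈ T a ⊔ (T (a + 1) ⊓ P b), g y = y := by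
        intro j
        induction j with
        | zero =>
          intro b hb y hy
          refine ih y ((sup_le le_rfl ?_ : T a ⊔ (T (a + 1) ⊓ P b) ≤ T a) hy)
          rintro w ⟨-, hw⟩
          obtain ⟨z, rfl⟩ := hP.1 hw
          obtain ⟨d, hd⟩ := pow_dvd_pow p (by omega : N ≤ b)
          rw [show z ^ p ^ b = 1 by rw [hd, pow_mul, ← hN, pow_card_eq_one', one_pow]]
          exact one_mem _
        | succ j ihj =>
          intro b hb
          have hDfix := ihj (b + 1) (by omega)
          set D := T a ⊔ (T (a + 1) ⊓ P (b + 1)) with hD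
          obtain ⟨x, hx, hle⟩ : ∃ x ∈ T (a + 1) ⊓ P b,
              T a ⊔ (T (a + 1) ⊓ P b) ≤ D ⊔ Subgroup.zpowers x := by
            let x : X := if hi : ∃ i, k i = a + 1 + b then g₀ hi.choose ^ p ^ b else 1
            refine ⟨x, ?_, sup_le (le_sup_of_le_left le_sup_left) ?_⟩
            · by_cases hi : ∃ i, k i = a + 1 + b
              · simp only [x, dif_pos hi]
                refine ⟨?_, hP.2 ⟨_, rfl⟩⟩
                refine hT.2 ?_
                rw [← pow_mul, ← pow_add,
                  show b + (a + 1) = k hi.choose from (add_comm _ _).trans hi.choose_spec.symm, ← hk,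
                  ← hord, pow_orderOf_eq_one]
              · simp only [x, dif_neg hi]
                exact one_mem _
            rintro y ⟨hy1, hy2⟩
            obtain ⟨z, hz⟩ := hP.1 hy2
            rw [← hz, ← hprod z, ← Finset.prod_pow]
            refine Subgroup.prod_mem _ fun i _ => ?_
            obtain ⟨m, hm⟩ := hπ i z
            set d := π i z with hd
            have hd1 : d ^ p ^ (b + (a + 1)) = 1 := by
              rw [hd, ← map_pow, pow_add, pow_mul, hz, hT.1 hy1, map_one]
            rcases lt_trichotomy (k i) (a + 1 + b) with hlt | heq | hgt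
            · refine Subgroup.mem_sup_left (Subgroup.mem_sup_left ?_)
              obtain ⟨c, hc⟩ := pow_dvd_pow p (by omega : k i ≤ b + a)
              rw [hT, ← pow_mul, ← pow_add, hc, pow_mul, hm, ← zpow_natCast (g₀ i ^ m) (p ^ k i),
                ← zpow_mul, mul_comm m, zpow_mul, zpow_natCast, ← hk, ← hord, pow_orderOf_eq_one,
                one_zpow, one_pow]
            · have hi : ∃ i, k i = a + 1 + b := ⟨i, heq⟩
              have hxe : x = g₀ i ^ p ^ b := by
                rw [show i = hi.choose from hkinj _ _ (heq.trans hi.choose_spec.symm)]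
                simp only [x, dif_pos hi]
              refine Subgroup.mem_sup_right (Subgroup.mem_zpowers_iff.2 ⟨m, ?_⟩)
              rw [hxe, hm, ← zpow_natCast, ← zpow_mul, mul_comm, zpow_mul, zpow_natCast]
            · refine Subgroup.mem_sup_left (Subgroup.mem_sup_right ⟨?_, ?_⟩)
              · refine hT.2 ?_
                rw [← pow_mul, ← pow_add, hd1]
              · have hdvd : (p : ℤ) ∣ m := by
                  rw [hm, ← zpow_natCast, ← zpow_mul, ← orderOf_dvd_iff_zpow_eq_one, hord, hk] at hd1
                  obtain ⟨r, hr⟩ := Nat.exists_eq_add_of_lt hgt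
                  rw [hr, show a + 1 + b + r + 1 = (b + (a + 1)) + (r + 1) by omega, pow_add,
                    mul_comm m, Nat.cast_mul] at hd1
                  have h' := Int.dvd_of_mul_dvd_mul_left
                    (by exact_mod_cast (pow_ne_zero _ hp.ne_zero)) hd1
                  refine dvd_trans ?_ h'
                  exact_mod_cast dvd_pow_self p (Nat.succ_ne_zero r)
                obtain ⟨c, hc⟩ := hdvd
                refine hP.2 ⟨g₀ i ^ c, ?_⟩
                rw [hm, hc, mul_comm (p : ℤ) c, zpow_mul, zpow_natCast, ← pow_mul, ← pow_succ']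
          have hxp : x ^ p ∈ D := Subgroup.mem_sup_left (by
            rw [hT, ← pow_mul, ← pow_succ']
            exact hT.1 hx.1)
          have hgx : g x = x := by
            refine fix_step (hN ▸ hH.pow_right N) (D := D) ?_ hxp ?_ hg hDfix
            · intro h _ d hd
              refine (Subgroup.map_le_iff_le_comap.1 (?_ : D.map h.toMonoidHom ≤ D)) hd
              rw [hD, Subgroup.map_sup]
              refine sup_le_sup ?_ ?_
              · rintro _ ⟨w, hw, rfl⟩
                exact hTinv h hw
              · rintro _ ⟨w, hw, rfl⟩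
                exact ⟨hTinv h hw.1, hPinv h hw.2⟩
            · intro h _
              exact hle (Subgroup.mem_sup_right ⟨hTinv h hx.1, hPinv h hx.2⟩)
          intro y hy
          have hall : D ⊔ Subgroup.zpowers x ≤ g.toMonoidHom.eqLocus (MonoidHom.id X) :=
            sup_le hDfix (Subgroup.zpowers_le.2 hgx)
          exact hall (hle hy)
      intro y hy
      exact inner N 0 (by omega) y (Subgroup.mem_sup_right ⟨hy, hP.2 ⟨y, by rw [pow_zero, pow_one]⟩⟩)
  exact MulEquiv.ext fun y => key N y (by rw [hT, ← hN, pow_card_eq_one'])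

/-- The automorphisms of `C × C`: a coprime group not abelian of exponent `p - 1`. -/
theorem exists_coprime_pair {C : Type*} [CommGroup C] [Finite C] {g : C} (hne : g ≠ 1)
    (hg2 : Odd p → g⁻¹ ≠ g) :
    ∃ H : Subgroup (MulAut (C × C)), (Nat.card H).Coprime p ∧
      ¬(IsMulCommutative H ∧ ∀ h ∈ H, h ^ (p - 1) = 1) := by
  have hp := (Fact.out : p.Prime)
  haveI : Finite (MulAut (C × C)) := Finite.of_injective _ DFunLike.coe_injective
  rcases hp.eq_two_or_odd' with h2 | hodd
  · let w : MulAut (C × C) :=
      { toFun := fun c => (c.2, c.1⁻¹ * c.2⁻¹)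
        invFun := fun c => (c.2⁻¹ * c.1⁻¹, c.1)
        left_inv := fun c => by simp [mul_comm, mul_left_comm]
        right_inv := fun c => by simp [mul_comm, mul_left_comm]
        map_mul' := fun a b => by
          refine Prod.ext rfl ?_
          simp only [Prod.fst_mul, Prod.snd_mul, mul_inv]
          exact mul_mul_mul_comm _ _ _ _ }
    have h3 : w ^ 3 = 1 := MulEquiv.ext fun c => by
      simp [pow_succ, MulAut.mul_apply, w, mul_comm, mul_left_comm]
    refine ⟨Subgroup.zpowers w, ?_, fun hh => ?_⟩
    · rw [Nat.card_zpowers, h2]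
      exact Nat.Coprime.coprime_dvd_left (orderOf_dvd_of_pow_eq_one h3) (by norm_num)
    · have := hh.2 w (Subgroup.mem_zpowers w)
      rw [h2, show (2 : ℕ) - 1 = 1 from rfl, pow_one] at this
      have := congrArg (fun f : MulAut (C × C) => (f (g, 1)).1) this
      exact hne (by simpa [w] using this.symm)
  · let s : MulAut (C × C) :=
      { toFun := fun c => (c.2, c.1), invFun := fun c => (c.2, c.1), left_inv := fun _ => rfl,
        right_inv := fun _ => rfl, map_mul' := fun _ _ => rfl }
    let t : MulAut (C × C) :=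
      { toFun := fun c => (c.1⁻¹, c.2), invFun := fun c => (c.1⁻¹, c.2),
        left_inv := fun c => by simp, right_inv := fun c => by simp,
        map_mul' := fun a b => by simp [mul_comm] }
    let r := s * t
    have ht : t ^ 2 = 1 := MulEquiv.ext fun c => by simp [pow_succ, MulAut.mul_apply, t]
    have hr : r ^ 4 = 1 := MulEquiv.ext fun c => by simp [pow_succ, MulAut.mul_apply, r, s, t]
    have htr : t * r * t⁻¹ = r ^ 3 := by
      rw [mul_inv_eq_iff_eq_mul]
      exact MulEquiv.ext fun c => by simp [pow_succ, MulAut.mul_apply, r, s, t]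
    haveI : Fact (Nat.Prime 2) := ⟨Nat.prime_two⟩
    have hnorm : Subgroup.zpowers t ≤ Subgroup.normalizer (Subgroup.zpowers r : Set (MulAut (C × C))) := by
      rw [Subgroup.zpowers_le]
      refine Subgroup.mem_normalizer_fintype fun m hm => ?_
      obtain ⟨j, rfl⟩ := Subgroup.mem_zpowers_iff.1 hm
      rw [← MulAut.conj_apply, map_zpow, MulAut.conj_apply, htr]
      exact zpow_mem (pow_mem (Subgroup.mem_zpowers r) 3) j
    have hpg : ∀ (u : MulAut (C × C)) (k : ℕ), u ^ 2 ^ k = 1 → IsPGroup 2 (Subgroup.zpowers u) := by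
      intro u k hu
      obtain ⟨j, -, hj⟩ := (Nat.dvd_prime_pow Nat.prime_two).1 (orderOf_dvd_of_pow_eq_one hu)
      exact IsPGroup.of_card (n := j) (by rw [Nat.card_zpowers, hj])
    have hD := (hpg r 2 hr).to_sup_of_normal_left' (hpg t 1 ht) hnorm
    refine ⟨Subgroup.zpowers r ⊔ Subgroup.zpowers t, ?_, fun hh => ?_⟩
    · obtain ⟨j, hj⟩ := IsPGroup.iff_card.1 hD
      rw [hj]
      refine Nat.Coprime.pow_left j ?_
      exact Nat.prime_two.coprime_iff_not_dvd.2 (by rcases hodd with ⟨q, rfl⟩; omega)
    · have hc := congrArg Subtype.val (hh.1.is_comm.comm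
        (⟨r, Subgroup.mem_sup_left (Subgroup.mem_zpowers r)⟩ :
          ↥(Subgroup.zpowers r ⊔ Subgroup.zpowers t))
        ⟨t, Subgroup.mem_sup_right (Subgroup.mem_zpowers t)⟩)
      have := congrArg (fun f : MulAut (C × C) => (f (g, 1)).2) hc
      simp [r, s, t, MulAut.mul_apply] at this
      first
      | exact hg2 hodd this
      | exact hg2 hodd this.symm

/-- A repeated invariant: some coprime automorphism group is not abelian of exponent `p - 1`. -/
theorem exists_coprime_not_abelian_exponent {X : Type*} [CommGroup X] {Y : Type*} [CommGroup Y]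
    {C : Type*} [CommGroup C] [Finite C] {g : C} (hne : g ≠ 1) (hg2 : Odd p → g⁻¹ ≠ g)
    (e : X ≃* (C × C) × Y) :
    ∃ H : Subgroup (MulAut X), (Nat.card H).Coprime p ∧
      ¬(IsMulCommutative H ∧ ∀ h ∈ H, h ^ (p - 1) = 1) := by
  let L : MulAut (C × C) →* MulAut X :=
    { toFun := fun f => e.trans ((f.prodCongr (MulEquiv.refl Y)).trans e.symm)
      map_one' := MulEquiv.ext fun x => e.symm_apply_apply x
      map_mul' := fun f f' => MulEquiv.ext fun x => by
        show e.symm _ = e.symm ((f.prodCongr (MulEquiv.refl Y)) (e (e.symm _)))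
        rw [e.apply_symm_apply]
        rfl }
  have hL : Function.Injective L := by
    refine (injective_iff_map_eq_one L).2 fun f hf => MulEquiv.ext fun c => ?_
    have := congrArg (fun φ : MulAut X => e (φ (e.symm (c, 1)))) hf
    simpa [L, MulEquiv.prodCongr] using congrArg Prod.fst this
  obtain ⟨H, hH, hne⟩ := exists_coprime_pair (p := p) hne hg2
  refine ⟨H.map L, by rwa [Subgroup.card_map_of_injective hL],
    fun hh => hne ⟨⟨⟨fun a b => ?_⟩⟩, fun a ha => ?_⟩⟩
  · have := hh.1.is_comm.comm (⟨L a, a, a.2, rfl⟩ : H.map L) ⟨L b, b, b.2, rfl⟩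
    exact Subtype.ext (hL (by rw [Subgroup.coe_mul, Subgroup.coe_mul, map_mul, map_mul]
                              exact congrArg Subtype.val this))
  · exact hL (by rw [map_pow, map_one]; exact hh.2 _ ⟨a, ha, rfl⟩)

end CfsgLib.FusionAut
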