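import Mathlib.Algebra.Module.ZMod
import Mathlib.GroupTheory.QuotientGroup.Basic
import Mathlib.GroupTheory.PGroup
import Mathlib.GroupTheory.OrderOfElement
import Mathlib.Algebra.Group.End
import Mathlib.Algebra.Group.Subgroup.Finite
import Mathlib.FieldTheory.Finite.Basic

/-!
# Coprime automorphism groups preserving a series with cyclic steps
-/

set_option autoImplicit false

namespace CfsgLib.FusionAut

variable {X : Type*} [Group X]

/-- A coprime automorphism fixing `D` and acting trivially on `x` modulo `D` fixes `x`. -/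
theorem fix_of_coprime [Finite X] {g : MulAut X} (hg : (orderOf g).Coprime (Nat.card X))
    {D : Subgroup X} (hD : ∀ d ∈ D, g d = d) {x : X} (hx : x⁻¹ * g x ∈ D) : g x = x := by
  have h : ∀ n : ℕ, (g ^ n) x = x * (x⁻¹ * g x) ^ n := by
    intro n
    induction n with
    | zero => simp
    | succ n ih => rw [pow_succ', MulAut.mul_apply, ih, map_mul, map_pow, hD _ hx, pow_succ']; simp [mul_assoc]
  have h1 : x * (x⁻¹ * g x) ^ orderOf g = x := by rw [← h, pow_orderOf_eq_one]; rfl
  rw [mul_eq_left, ← orderOf_dvd_iff_pow_eq_one] at h1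
  have h2 : orderOf (x⁻¹ * g x) = 1 :=
    Nat.eq_one_of_dvd_coprimes hg h1 (orderOf_dvd_natCard _)
  rwa [orderOf_eq_one_iff, inv_mul_eq_one, eq_comm] at h2

/-- The kinds of elements that must be trivial. -/
def IsAbExp (p : ℕ) (H : Subgroup (MulAut X)) (g : MulAut X) : Prop :=
  (∃ a ∈ H, ∃ b ∈ H, g = (b * a)⁻¹ * (a * b)) ∨ ∃ h ∈ H, g = h ^ (p - 1)

theorem IsAbExp.mem {p : ℕ} {H : Subgroup (MulAut X)} {g : MulAut X} (hg : IsAbExp p H g) :
    g ∈ H := by
  rcases hg with ⟨a, ha, b, hb, rfl⟩ | ⟨h, hh, rfl⟩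
  · exact mul_mem (inv_mem (mul_mem hb ha)) (mul_mem ha hb)
  · exact pow_mem hh _

theorem abelian_exponent_of_abExp_trivial {p : ℕ} {H : Subgroup (MulAut X)}
    (h : ∀ g, IsAbExp p H g → g = 1) : IsMulCommutative H ∧ ∀ a ∈ H, a ^ (p - 1) = 1 := by
  refine ⟨⟨⟨fun a b => Subtype.ext ?_⟩⟩, fun a ha => h _ (Or.inr ⟨a, ha, rfl⟩)⟩
  have := h _ (Or.inl ⟨a, a.2, b, b.2, rfl⟩)
  rw [inv_mul_eq_one] at this
  exact this.symm

/-- One step with a factor of order at most `p`. -/
theorem fix_step [Finite X] {p : ℕ} [Fact p.Prime] {H : Subgroup (MulAut X)}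
    (hH : (Nat.card H).Coprime (Nat.card X)) {D : Subgroup X} [D.Normal]
    (hDinv : ∀ h ∈ H, ∀ d ∈ D, h d ∈ D) {x : X} (hxp : x ^ p ∈ D)
    (hinv : ∀ h ∈ H, h x ∈ D ⊔ Subgroup.zpowers x) {g : MulAut X} (hg : IsAbExp p H g)
    (hfix : ∀ d ∈ D, g d = d) : g x = x := by
  classical
  by_cases hxD : x ∈ D
  · exact hfix x hxD
  have hcop : (orderOf g).Coprime (Nat.card X) := by
    refine Nat.Coprime.coprime_dvd_left ?_ hH
    have := orderOf_dvd_natCard (⟨g, hg.mem⟩ : H)
    rwa [Subgroup.orderOf_mk] at this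
  refine fix_of_coprime hcop hfix ?_
  let mk : X →* X ⧸ D := QuotientGroup.mk' D
  have hmk : ∀ u v : X, mk u = mk v → ∀ h ∈ H, mk (h u) = mk (h v) := by
    intro u v huv h hh
    rw [QuotientGroup.mk'_eq_mk'] at huv ⊢
    obtain ⟨d, hd, rfl⟩ := huv
    exact ⟨h d, hDinv h hh d hd, (map_mul h _ _).symm⟩
  have hone : orderOf (mk x) = p := by
    refine orderOf_eq_prime ?_ ?_
    · rw [← map_pow]; exact (QuotientGroup.eq_one_iff _).2 hxp
    · exact fun h => hxD ((QuotientGroup.eq_one_iff _).1 h)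
  have hk : ∀ h ∈ H, ∃ k : ℕ, mk (h x) = mk x ^ k ∧ ¬ p ∣ k := by
    intro h hh
    have h1 : mk (h x) ∈ Subgroup.zpowers (mk x) := by
      have : mk (h x) ∈ (D ⊔ Subgroup.zpowers x).map mk := ⟨_, hinv h hh, rfl⟩
      rwa [Subgroup.map_sup, MonoidHom.map_zpowers, show D.map mk = ⊥ from QuotientGroup.map_mk'_self D,
        bot_sup_eq] at this
    obtain ⟨k, hk⟩ := (isOfFinOrder_of_finite (mk x)).mem_powers_iff_mem_zpowers.2 h1
    refine ⟨k, hk.symm, fun hdvd => ?_⟩
    have h2 : mk x ^ k = 1 := by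
      rw [← orderOf_dvd_iff_pow_eq_one, hone]; exact hdvd
    have h3 : h x ∈ D := (QuotientGroup.eq_one_iff _).1 (hk.symm.trans h2)
    exact hxD (by simpa using hDinv h⁻¹ (inv_mem hh) _ h3)
  have hgoal : mk (g x) = mk x := by
    rcases hg with ⟨a, ha, b, hb, rfl⟩ | ⟨h, hh, rfl⟩
    · obtain ⟨k, hka, -⟩ := hk a ha
      obtain ⟨l, hlb, -⟩ := hk b hb
      have h1 : mk (a (b x)) = mk x ^ (l * k) := by
        rw [hmk (b x) (x ^ l) (by rw [map_pow]; exact hlb) a ha, map_pow, map_pow, hka, ← pow_mul,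
          mul_comm]
      have h2 : mk (b (a x)) = mk x ^ (l * k) := by
        rw [hmk (a x) (x ^ k) (by rw [map_pow]; exact hka) b hb, map_pow, map_pow, hlb, ← pow_mul]
      have := hmk _ _ (h1.trans h2.symm) _ (inv_mem (mul_mem hb ha))
      simpa [MulAut.mul_apply] using this
    · obtain ⟨k, hk1, hk2⟩ := hk h hh
      have hn : ∀ n : ℕ, mk ((h ^ n) x) = mk x ^ (k ^ n) := by
        intro n
        induction n with
        | zero => simp
        | succ n ih =>
          rw [pow_succ', MulAut.mul_apply, hmk _ (x ^ k ^ n) (by rw [map_pow]; exact ih) h hh,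
            map_pow, map_pow, hk1, ← pow_mul, ← pow_succ']
      rw [hn]
      conv_rhs => rw [← pow_one (mk x)]
      rw [pow_eq_pow_iff_modEq, hone]
      have := Nat.ModEq.pow_totient (x := k) (n := p)
        (((Fact.out : p.Prime).coprime_iff_not_dvd.2 hk2).symm)
      rwa [Nat.totient_prime Fact.out] at this
  exact QuotientGroup.eq.1 hgoal.symm

/-- If an automorphism preserves `C` and `C ⊔ ⟨x⟩`, it preserves `C ⊔ ⟨x ^ m⟩`. -/
theorem apply_pow_mem_sup {C : Subgroup X} [C.Normal] {h : MulAut X} {x : X}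
    (hx : h x ∈ C ⊔ Subgroup.zpowers x) (m : ℕ) :
    h (x ^ m) ∈ C ⊔ Subgroup.zpowers (x ^ m) := by
  obtain ⟨c, hc, y, hy, hcy⟩ := Subgroup.mem_sup_of_normal_left.1 hx
  obtain ⟨k, rfl⟩ := Subgroup.mem_zpowers_iff.1 hy
  have hmem : QuotientGroup.mk' C (h (x ^ m)) = QuotientGroup.mk' C ((x ^ m) ^ k) := by
    rw [map_pow, map_pow, ← hcy, map_mul, show QuotientGroup.mk' C c = 1 from
      (QuotientGroup.eq_one_iff c).2 hc, one_mul, ← map_pow, ← zpow_natCast, ← zpow_mul,
      mul_comm, zpow_mul, zpow_natCast]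
  obtain ⟨d, hd, hd'⟩ := (QuotientGroup.mk'_eq_mk' C).1 hmem.symm
  rw [← hd']
  exact mul_mem (Subgroup.mem_sup_right (Subgroup.zpow_mem _ (Subgroup.mem_zpowers _) _))
    (Subgroup.mem_sup_left hd)

/-- Induction along a series with cyclic steps, in steps of order at most `p`. -/
theorem eq_one_of_chain [Finite X] {p : ℕ} [Fact p.Prime] (hX : IsPGroup p X)
    {G : Subgroup (MulAut X)} {m : ℕ} (c : Fin (m + 1) → Subgroup X)
    (h0 : c 0 = ⊥) (hlast : c (Fin.last m) = ⊤) (hn : ∀ i, (c i).Normal)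
    (hinv : ∀ h ∈ G, ∀ i, ∀ d ∈ c i, h d ∈ c i)
    (hstep : ∀ i : Fin m, ∃ x, c i.succ = c i.castSucc ⊔ Subgroup.zpowers x) {g : MulAut X}
    (hg : ∀ (D : Subgroup X) (x : X), D.Normal → (∀ h ∈ G, ∀ d ∈ D, h d ∈ D) → x ^ p ∈ D →
      (∀ h ∈ G, h x ∈ D ⊔ Subgroup.zpowers x) → (∀ d ∈ D, g d = d) → g x = x) : g = 1 := by
  obtain ⟨n, hn'⟩ := IsPGroup.iff_card.1 hX
  have key : ∀ i : Fin (m + 1), ∀ d ∈ c i, g d = d := by
    intro i
    induction i using Fin.induction with
    | zero => intro d hd; rw [h0, Subgroup.mem_bot] at hd; rw [hd, map_one]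
    | succ i ih =>
      obtain ⟨x, hx⟩ := hstep i
      haveI := hn i.castSucc
      have hpres : ∀ h : MulAut X, (∀ j, ∀ d ∈ c j, h d ∈ c j) → ∀ e : ℕ,
          h (x ^ e) ∈ c i.castSucc ⊔ Subgroup.zpowers (x ^ e) := fun h hh e =>
        apply_pow_mem_sup (hx ▸ hh i.succ x (hx ▸ Subgroup.mem_sup_right (Subgroup.mem_zpowers x))) e
      have hnorm : ∀ e : ℕ, (c i.castSucc ⊔ Subgroup.zpowers (x ^ e)).Normal := by
        intro e
        refine ⟨fun d hd y => ?_⟩
        have hle : c i.castSucc ⊔ Subgroup.zpowers (x ^ e) ≤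
            (c i.castSucc ⊔ Subgroup.zpowers (x ^ e)).comap (MulAut.conj y).toMonoidHom :=
          sup_le (fun a ha => Subgroup.mem_sup_left ((hn i.castSucc).conj_mem a ha y))
            (Subgroup.zpowers_le.2 (hpres (MulAut.conj y) (fun j a ha => (hn j).conj_mem a ha y) e))
        exact hle hd
      have hfix : ∀ j : ℕ, g (x ^ p ^ (n - j)) = x ^ p ^ (n - j) := by
        intro j
        induction j with
        | zero =>
          rw [Nat.sub_zero, ← hn', pow_card_eq_one', map_one]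
        | succ j ihj =>
          rcases Nat.lt_or_ge j n with hj | hj
          · have e : n - j = n - (j + 1) + 1 := by omega
            refine hg (c i.castSucc ⊔ Subgroup.zpowers (x ^ p ^ (n - j))) _ (hnorm _) ?_ ?_ ?_ ?_
            · intro h hh d hd
              have hle : c i.castSucc ⊔ Subgroup.zpowers (x ^ p ^ (n - j)) ≤
                  (c i.castSucc ⊔ Subgroup.zpowers (x ^ p ^ (n - j))).comap h.toMonoidHom :=
                sup_le (fun a ha => Subgroup.mem_sup_left (hinv h hh _ a ha))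
                  (Subgroup.zpowers_le.2 (hpres h (hinv h hh) _))
              exact hle hd
            · rw [← pow_mul, ← pow_succ, ← e]
              exact Subgroup.mem_sup_right (Subgroup.mem_zpowers _)
            · intro h hh
              exact SetLike.le_def.1 (sup_le_sup_right le_sup_left _)
                (hpres h (hinv h hh) (p ^ (n - (j + 1))))
            · intro d hd
              have hle : c i.castSucc ⊔ Subgroup.zpowers (x ^ p ^ (n - j)) ≤
                  g.toMonoidHom.eqLocus (MonoidHom.id X) :=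
                sup_le (fun a ha => ih a ha) (Subgroup.zpowers_le.2 ihj)
              exact hle hd
          · rw [show n - (j + 1) = n - j by omega]; exact ihj
      intro d hd
      rw [hx] at hd
      have hle : c i.castSucc ⊔ Subgroup.zpowers x ≤ g.toMonoidHom.eqLocus (MonoidHom.id X) :=
        sup_le (fun a ha => ih a ha) (Subgroup.zpowers_le.2 (by
          have := hfix n
          rwa [Nat.sub_self, pow_zero, pow_one] at this))
      exact hle hd
  exact MulEquiv.ext fun x => key (Fin.last m) x (hlast ▸ Subgroup.mem_top x)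

/-- A coprime group of automorphisms preserving a series with cyclic steps is abelian of exponent
dividing `p - 1`. -/
theorem abelian_exponent_of_chain [Finite X] {p : ℕ} [Fact p.Prime] (hX : IsPGroup p X)
    {H : Subgroup (MulAut X)} (hH : (Nat.card H).Coprime p) {m : ℕ} (c : Fin (m + 1) → Subgroup X)
    (h0 : c 0 = ⊥) (hlast : c (Fin.last m) = ⊤) (hn : ∀ i, (c i).Normal)
    (hinv : ∀ h ∈ H, ∀ i, ∀ d ∈ c i, h d ∈ c i)
    (hstep : ∀ i : Fin m, ∃ x, c i.succ = c i.castSucc ⊔ Subgroup.zpowers x) :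
    IsMulCommutative H ∧ ∀ a ∈ H, a ^ (p - 1) = 1 := by
  obtain ⟨n, hn'⟩ := IsPGroup.iff_card.1 hX
  refine abelian_exponent_of_abExp_trivial fun g hg => ?_
  refine eq_one_of_chain hX c h0 hlast hn hinv hstep fun D x hD hDinv hxp hx hfix => ?_
  exact fix_step (hn' ▸ hH.pow_right n) hDinv hxp hx hg hfix

/-- The `p`-elements of a group of automorphisms preserving a series with cyclic steps form a
normal `p`-subgroup. -/
theorem exists_normal_pGroup_of_chain [Finite X] {p : ℕ} [Fact p.Prime] (hX : IsPGroup p X)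
    {G : Subgroup (MulAut X)} {m : ℕ} (c : Fin (m + 1) → Subgroup X)
    (h0 : c 0 = ⊥) (hlast : c (Fin.last m) = ⊤) (hn : ∀ i, (c i).Normal)
    (hinv : ∀ h ∈ G, ∀ i, ∀ d ∈ c i, h d ∈ c i)
    (hstep : ∀ i : Fin m, ∃ x, c i.succ = c i.castSucc ⊔ Subgroup.zpowers x) :
    ∃ K : Subgroup G, K.Normal ∧ IsPGroup p K ∧ ∀ (g : G) (k : ℕ), g ^ p ^ k = 1 → g ∈ K := by
  classical
  let Cond : Subgroup X → X → Prop := fun D x => D.Normal ∧ (∀ h ∈ G, ∀ d ∈ D, h d ∈ D) ∧
    x ^ p ∈ D ∧ ∀ h ∈ G, h x ∈ D ⊔ Subgroup.zpowers x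
  have hinv2 : ∀ {D x}, Cond D x → ∀ h ∈ G, ∀ y ∈ D ⊔ Subgroup.zpowers x,
      h y ∈ D ⊔ Subgroup.zpowers x := by
    intro D x hc h hh y hy
    have hle : D ⊔ Subgroup.zpowers x ≤ (D ⊔ Subgroup.zpowers x).comap h.toMonoidHom :=
      sup_le (fun a ha => Subgroup.mem_sup_left (hc.2.1 h hh a ha))
        (Subgroup.zpowers_le.2 (hc.2.2.2 h hh))
    exact hle hy
  let K : Subgroup G :=
    { carrier := {g | ∀ D x, Cond D x → ∀ y ∈ D ⊔ Subgroup.zpowers x, y⁻¹ * (g : MulAut X) y ∈ D}
      one_mem' := fun D x _ y _ => by simp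
      mul_mem' := fun {a b} ha hb D x hc y hy => by
        have h1 := D.mul_mem (hb D x hc y hy) (ha D x hc _ (hinv2 hc _ b.2 y hy))
        simpa [mul_assoc] using h1
      inv_mem' := fun {a} ha D x hc y hy => by
        have h1 := D.inv_mem (ha D x hc _ (hinv2 hc _ (inv_mem a.2) y hy))
        simpa using h1 }
  refine ⟨K, ⟨fun a ha b D x hc y hy => ?_⟩, fun g => ?_, fun g k hk D x hc y hy => ?_⟩
  · have h1 := hc.2.1 _ b.2 _ (ha D x hc _ (hinv2 hc _ (inv_mem b.2) y hy))
    simpa using h1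
  · obtain ⟨k, l, hl, hord⟩ := Nat.exists_eq_pow_mul_and_not_dvd
      (orderOf_pos ((g : G) : MulAut X)).ne' p (Fact.out : p.Prime).ne_one
    refine ⟨k, ?_⟩
    obtain ⟨n, hn'⟩ := IsPGroup.iff_card.1 hX
    have h1 : (((g : G) : MulAut X)) ^ p ^ k = 1 := by
      refine eq_one_of_chain hX c h0 hlast hn hinv hstep fun D x hD hDinv hxp hx hfix => ?_
      refine fix_of_coprime ?_ hfix ((g ^ p ^ k : K).2 D x ⟨hD, hDinv, hxp, hx⟩ x
        (Subgroup.mem_sup_right (Subgroup.mem_zpowers x)))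
      rw [hn', orderOf_pow, hord, Nat.gcd_eq_right (dvd_mul_right _ _),
        Nat.mul_div_cancel_left _ (pow_pos (Fact.out : p.Prime).pos _)]
      exact (((Fact.out : p.Prime).coprime_iff_not_dvd.2 hl).symm).pow_right n
    exact Subtype.ext (Subtype.ext h1)
  · obtain ⟨hD, hDinv, hxp, hx⟩ := hc
    haveI := hD
    by_cases hxD : x ∈ D
    · have : D ⊔ Subgroup.zpowers x = D := sup_eq_left.2 (Subgroup.zpowers_le.2 hxD)
      rw [this] at hy
      exact D.mul_mem (D.inv_mem hy) (hDinv _ g.2 y hy)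
    let mk : X →* X ⧸ D := QuotientGroup.mk' D
    have hcong : ∀ u v : X, mk u = mk v → ∀ h ∈ G, mk (h u) = mk (h v) := by
      intro u v huv h hh
      rw [QuotientGroup.mk'_eq_mk'] at huv ⊢
      obtain ⟨d, hd, rfl⟩ := huv
      exact ⟨h d, hDinv h hh d hd, (map_mul h _ _).symm⟩
    have hmap : (D ⊔ Subgroup.zpowers x).map mk = Subgroup.zpowers (mk x) := by
      rw [Subgroup.map_sup, MonoidHom.map_zpowers,
        show D.map mk = ⊥ from QuotientGroup.map_mk'_self D, bot_sup_eq]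
    obtain ⟨e, he⟩ := (isOfFinOrder_of_finite (mk x)).mem_powers_iff_mem_zpowers.2
      (hmap.le ⟨_, hx _ g.2, rfl⟩)
    have hpow : ∀ j : ℕ, mk (((g : MulAut X) ^ j) x) = mk x ^ (e ^ j) := by
      intro j
      induction j with
      | zero => simp
      | succ j ih =>
        rw [pow_succ', MulAut.mul_apply, hcong _ (x ^ e ^ j) (by rw [map_pow]; exact ih) _ g.2,
          map_pow, map_pow, ← he, ← pow_mul, ← pow_succ']
    have hone : orderOf (mk x) = p := by
      refine orderOf_eq_prime ?_ ?_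
      · rw [← map_pow]; exact (QuotientGroup.eq_one_iff _).2 hxp
      · exact fun h => hxD ((QuotientGroup.eq_one_iff _).1 h)
    have h1 : mk x ^ (e ^ p ^ k) = mk x ^ 1 := by
      rw [pow_one, ← hpow, show (g : MulAut X) ^ p ^ k = 1 from congrArg Subtype.val hk]; rfl
    rw [pow_eq_pow_iff_modEq, hone, ← ZMod.natCast_eq_natCast_iff, Nat.cast_pow,
      ZMod.pow_card_pow] at h1
    obtain ⟨b, hb⟩ := (isOfFinOrder_of_finite (mk x)).mem_powers_iff_mem_zpowers.2
      (hmap.le ⟨y, hy, rfl⟩)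
    refine QuotientGroup.eq.1 ?_
    show mk y = mk ((g : MulAut X) y)
    rw [hcong y (x ^ b) (by rw [map_pow]; exact hb.symm) _ g.2, map_pow, map_pow, ← he, ← hb,
      ← pow_mul]
    show mk x ^ b = _
    rw [pow_eq_pow_iff_modEq, hone, ← ZMod.natCast_eq_natCast_iff, Nat.cast_mul, h1, Nat.cast_one,
      one_mul]

open scoped Classical in
/-- An automorphism of exponent dividing `p - 1` of a nonzero `F_p`-space has an eigenvector. -/
theorem exists_eigen {p : ℕ} [Fact p.Prime] {V : Type*} [AddCommGroup V] [Module (ZMod p) V]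
    (T : V →ₗ[ZMod p] V) (hT : T ^ (p - 1) = 1) {w : V} (hw : w ≠ 0)
    (W : Submodule (ZMod p) V) (hW : w ∈ W) (hTW : ∀ v ∈ W, T v ∈ W) :
    ∃ (c : ZMod p) (v : V), v ∈ W ∧ v ≠ 0 ∧ T v = c • v := by
  have hp1 : 0 < p - 1 := Nat.sub_pos_of_lt (Fact.out : p.Prime).one_lt
  have hpow : ∀ (j : ℕ), (T ^ j) w ∈ W := by
    intro j
    induction j with
    | zero => exact hW
    | succ j ih => rw [pow_succ', Module.End.mul_apply]; exact hTW _ ih
  let u : (ZMod p)ˣ → V := fun k =>
    ∑ j ∈ Finset.range (p - 1), ((k : ZMod p) ^ j) • (T ^ j) w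
  have hsum : ∑ k : (ZMod p)ˣ, u k = -w := by
    simp only [u]
    rw [Finset.sum_comm, Finset.sum_eq_single_of_mem 0 (Finset.mem_range.2 hp1)]
    · rw [← Finset.sum_smul]
      have h0 := FiniteField.sum_pow_units (ZMod p) 0
      simp only [dvd_zero, if_true] at h0
      simp only [pow_zero] at h0 ⊢
      rw [h0]
      simp
    · intro j hj hj0
      rw [← Finset.sum_smul]
      have h0 := FiniteField.sum_pow_units (ZMod p) j
      rw [ZMod.card, if_neg] at h0
      · rw [h0, zero_smul]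
      · intro hdvd
        have := Nat.le_of_dvd (Nat.pos_of_ne_zero hj0) hdvd
        rw [Finset.mem_range] at hj
        omega
  obtain ⟨k, hk⟩ : ∃ k, u k ≠ 0 := by
    by_contra h
    push Not at h
    rw [Finset.sum_eq_zero fun k _ => h k] at hsum
    exact hw (neg_eq_zero.1 hsum.symm)
  refine ⟨((k⁻¹ : (ZMod p)ˣ) : ZMod p), u k,
    Submodule.sum_mem _ fun j _ => W.smul_mem _ (hpow j), hk, ?_⟩
  let f : ℕ → V := fun j => ((k : ZMod p) ^ j) • (T ^ j) w
  have hshift : ∑ j ∈ Finset.range (p - 1), f (j + 1) = ∑ j ∈ Finset.range (p - 1), f j := by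
    have h1 := Finset.sum_range_succ' f (p - 1)
    have h2 := Finset.sum_range_succ f (p - 1)
    have h3 : f (p - 1) = f 0 := by
      simp only [f, hT, pow_zero]
      rw [ZMod.pow_card_sub_one_eq_one k.ne_zero]
    rw [h3] at h2
    exact add_right_cancel (h1.symm.trans h2)
  have hkT : (k : ZMod p) • T (u k) = u k := by
    simp only [u, map_sum, Finset.smul_sum, map_smul]
    refine Eq.trans (Finset.sum_congr rfl fun j _ => ?_) hshift
    simp only [f]
    rw [smul_smul, ← pow_succ', pow_succ' T, Module.End.mul_apply]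
  calc T (u k) = (((k⁻¹ : (ZMod p)ˣ) : ZMod p) * (k : ZMod p)) • T (u k) := by
        rw [← Units.val_mul, inv_mul_cancel, Units.val_one, one_smul]
    _ = _ := by rw [← smul_smul, hkT]

/-- Multiplicative form of `exists_eigen`. -/
theorem exists_eigen_mul {p : ℕ} [Fact p.Prime] {W : Type*} [CommGroup W]
    (hexp : ∀ a : W, a ^ p = 1) (f : W →* W) (hf : ∀ a, f^[p - 1] a = a)
    (V : Subgroup W) {w : W} (hwV : w ∈ V) (hw : w ≠ 1) (hV : ∀ v ∈ V, f v ∈ V) :
    ∃ (c : ℕ) (v : W), v ∈ V ∧ v ≠ 1 ∧ f v = v ^ c := by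
  letI : Module (ZMod p) (Additive W) :=
    AddCommGroup.zmodModule (n := p) fun a => congrArg Additive.ofMul (hexp a.toMul)
  let T : Additive W →ₗ[ZMod p] Additive W := AddMonoidHom.toZModLinearMap p f.toAdditive
  have hTn : ∀ (n : ℕ) (a : Additive W), (T ^ n) a = Additive.ofMul (f^[n] a.toMul) := by
    intro n
    induction n with
    | zero => intro a; rfl
    | succ n ih =>
      intro a
      rw [pow_succ', Module.End.mul_apply, ih, Function.iterate_succ_apply']
      rfl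
  have hT : T ^ (p - 1) = 1 := LinearMap.ext fun a => by rw [hTn, hf]; rfl
  let V' : Submodule (ZMod p) (Additive W) :=
    { Subgroup.toAddSubgroup V with
      smul_mem' := fun c a ha => ZMod.smul_mem (K := Subgroup.toAddSubgroup V) ha c }
  obtain ⟨c, v, hvV, hv0, hv⟩ :=
    exists_eigen T hT (w := Additive.ofMul w) (fun e => hw e) V' hwV fun v hv => hV _ hv
  refine ⟨c.val, v.toMul, hvV, fun e => hv0 e, ?_⟩
  have h2 : c • v = c.val • v := by
    rw [← Nat.cast_smul_eq_nsmul (ZMod p), ZMod.natCast_zmod_val]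
  rw [h2] at hv
  exact congrArg Additive.toMul hv

end CfsgLib.FusionAut
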