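import Cfsg.Agent.Lib.FusionAut.AutSystem
import Cfsg.Agent.Lib.FusionAut.Coprime
import Cfsg.Agent.Lib.Fusion.Normal

/-!
# Subsystems given by one automorphism of coprime order
-/

set_option autoImplicit false

namespace CfsgLib.FusionAut

open Cfsg Cfsg.FusionSystem CfsgLib.Fusion

variable {Ω : Type*} [Group Ω] {S : Subgroup Ω} {p : ℕ} [Fact p.Prime]

/-- `Inn P` has index prime to `p` in `Inn P ⊔ H` when `H` has order prime to `p`. -/
theorem not_dvd_index_inn_sup (P : Subgroup Ω) [Finite P] {H : Subgroup (MulAut P)}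
    (hH : (Nat.card H).Coprime p) :
    ¬ p ∣ ((Cfsg.Inn P).subgroupOf (Cfsg.Inn P ⊔ H)).index := by
  intro hdvd
  have : Finite (MulAut P) := finite_mulAut
  have hnor := inn_normal P
  have : ((Cfsg.Inn P).subgroupOf (Cfsg.Inn P ⊔ H)).Normal := hnor.subgroupOf _
  let f : H →* (Cfsg.Inn P ⊔ H : Subgroup (MulAut P)) ⧸ (Cfsg.Inn P).subgroupOf (Cfsg.Inn P ⊔ H) :=
    (QuotientGroup.mk' _).comp (Subgroup.inclusion le_sup_right)
  have hf : Function.Surjective f := by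
    intro q
    obtain ⟨a, rfl⟩ := QuotientGroup.mk'_surjective _ q
    have ha : (a : MulAut P) ∈ ((Cfsg.Inn P ⊔ H : Subgroup (MulAut P)) : Set (MulAut P)) := a.2
    rw [Subgroup.normal_mul] at ha
    obtain ⟨n, hn, k, hk, hnk⟩ := ha
    refine ⟨⟨k, hk⟩, (QuotientGroup.eq.2 ?_)⟩
    show (k : MulAut P)⁻¹ * (a : MulAut P) ∈ Cfsg.Inn P
    rw [← hnk]
    simpa [mul_assoc] using hnor.conj_mem n hn (k : MulAut P)⁻¹
  rw [Subgroup.index_eq_card] at hdvd
  exact (Fact.out : p.Prime).coprime_iff_not_dvd.1 hH.symm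
    (hdvd.trans (Subgroup.card_dvd_of_surjective f hf))

theorem not_mem_inn_of_orderOf [Finite S] (hS : IsPGroup p S) {q : ℕ} (hq : q.Prime) (hqp : q ≠ p)
    {β : MulAut S} (hβ : orderOf β = q) : β ∉ Cfsg.Inn S := by
  intro hmem
  rw [inn_eq_autInducedBy] at hmem
  obtain ⟨k, hk⟩ := isPGroup_autInducedBy hS S ⟨β, hmem⟩
  have h1 : β ^ p ^ k = 1 := congrArg Subtype.val hk
  have h2 := orderOf_dvd_of_pow_eq_one h1
  rw [hβ] at h2
  exact hqp ((Nat.prime_dvd_prime_iff_eq hq Fact.out).1 (hq.dvd_of_dvd_pow h2))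

/-- In an extremely sparse system an automorphism of prime order `q ≠ p` of a subgroup lives on
`S` and determines the system. -/
theorem eq_top_of_sparse [Finite S] (hS : IsPGroup p S) {F : Cfsg.FusionSystem S}
    (hsp : ∀ (T : Subgroup Ω) (E : Cfsg.FusionSystem T), E.IsSaturated p → E.IsSubsystemOf F →
      (T = S ∧ ∀ P : Subgroup Ω, E.Hom P = F.Hom P) ∨
        (∀ P : Subgroup Ω, E.Hom P = (Cfsg.innerFusionSystem T).Hom P))
    {P : Subgroup Ω} (hP : P ≤ S) {q : ℕ} (hq : q.Prime) (hqp : q ≠ p) {β : MulAut P}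
    (hβ : β ∈ F.autGroup P) (hord : orderOf β = q) :
    P = S ∧ ∀ Q, (autSystem P (Cfsg.Inn P ⊔ Subgroup.zpowers β) le_sup_left).Hom Q = F.Hom Q := by
  have : Finite P := finite_of_le hP
  have hPp := hS.to_le hP
  have hco : (Nat.card (Subgroup.zpowers β)).Coprime p := by
    rw [Nat.card_zpowers, hord]
    exact (Nat.coprime_primes hq Fact.out).2 hqp
  rcases hsp P _ (isSaturated_autSystem hPp (not_dvd_index_inn_sup P hco))
      (isSubsystemOf_autSystem (hB := le_sup_left) hP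
        (sup_le (inn_le_autGroup F hP) (Subgroup.zpowers_le.2 hβ))) with ⟨h1, h2⟩ | h2
  · exact ⟨h1, h2⟩
  exfalso
  have hmem : P.subtype.comp β.toMonoidHom ∈
      (autSystem P (Cfsg.Inn P ⊔ Subgroup.zpowers β) le_sup_left).Hom P :=
    mem_autSystem.2 ⟨le_rfl, β, Subgroup.mem_sup_right (Subgroup.mem_zpowers β), fun _ => rfl⟩
  rw [h2 P] at hmem
  obtain ⟨-, g, hg, hx⟩ := hmem
  exact not_mem_inn_of_orderOf hPp hq hqp hord
    ⟨⟨g, hg⟩, MulEquiv.ext fun x => Subtype.ext (hx x).symm⟩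

end CfsgLib.FusionAut
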