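import Cfsg.Agent.Lib.FusionAut.AutSystem
import Cfsg.Agent.Lib.FusionAut.Coprime
import Cfsg.Agent.Lib.Fusion.Normal
import Mathlib.GroupTheory.SchurZassenhaus
import Mathlib.Algebra.Module.ZMod
import Mathlib.GroupTheory.SpecificGroups.Cyclic

/-!
# Supersoluble fusion systems
-/

set_option autoImplicit false

namespace CfsgLib.FusionAut

open Cfsg Cfsg.FusionSystem CfsgLib.Fusion

variable {Ω : Type*} [Group Ω] {S : Subgroup Ω} {p : ℕ} [Fact p.Prime]

/-- A chain of strongly closed subgroups with cyclic steps. -/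
def IsSupersoluble (F : Cfsg.FusionSystem S) : Prop :=
  ∃ (m : ℕ) (c : Fin (m + 1) → Subgroup Ω), c 0 = ⊥ ∧ c (Fin.last m) = S ∧
    (∀ i : Fin (m + 1), F.StronglyClosed (c i)) ∧
    ∀ i : Fin m, c i.castSucc ≤ c i.succ ∧ ∃ x ∈ S, c i.succ = c i.castSucc ⊔ Subgroup.zpowers x

theorem subgroupOf_normal_of_stronglyClosed {F : Cfsg.FusionSystem S} {T : Subgroup Ω}
    (hT : F.StronglyClosed T) {P : Subgroup Ω} (hP : P ≤ S) : (T.subgroupOf P).Normal :=
  ⟨fun t ht g => conj_mem_of_mem_normalizer (stronglyClosed_le_normalizer hT (hP g.2)) ht⟩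

/-- A supersoluble saturated system has `S` normal. -/
theorem IsSupersoluble.isNormal_top [Finite S] (hS : IsPGroup p S) {F : Cfsg.FusionSystem S}
    (hF : F.IsSaturated p) (h : IsSupersoluble F) : F.IsNormal S := by
  obtain ⟨m, c, h0, hlast, hcl, hstep⟩ := h
  refine (isNormal_iff_essential hS hF).2 fun P hP => ?_
  rcases hP with rfl | hP
  · refine ⟨le_rfl, fun α _ => ?_⟩
    rw [Subgroup.subgroupOf_self, Subgroup.map_top_of_surjective _ α.surjective]
  exfalso
  have hPS : P ≤ S := hP.1.1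
  have hPne : P ≠ S := by
    rintro rfl
    apply extendableAut_ne_of_isEssential hS hF hP
    refine le_antisymm (extendableAut_le F P) ?_
    obtain ⟨-, T, hT⟩ := isFullyAutomized_of_isFullyNormalized hS hF (isFullyNormalized_top F)
    have hn := inn_subgroupOf_normal F P
    obtain ⟨_, _, _, E, hdvd, -⟩ := hP
    rw [← inn_eq_autInducedBy] at hT
    rw [← Subgroup.index_eq_card] at hdvd
    have : Finite (MulAut P) := finite_mulAut
    exact absurd hdvd (hT ▸ T.not_dvd_index)
  haveI : Finite P := finite_of_le hPS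
  haveI : Finite (MulAut P) := finite_mulAut
  have hn : ∀ i, ((c i).subgroupOf P).Normal := fun i => subgroupOf_normal_of_stronglyClosed (hcl i) hPS
  have hinv : ∀ h ∈ F.autGroup P, ∀ i, ∀ d ∈ (c i).subgroupOf P, h d ∈ (c i).subgroupOf P :=
    fun α hα i d hd => stronglyClosed_apply_mem (hcl i) ((mem_autGroup_iff_hom hPS).1 hα) d hd
  have hstep' : ∀ i : Fin m, ∃ y, (c i.succ).subgroupOf P =
      (c i.castSucc).subgroupOf P ⊔ Subgroup.zpowers y := by
    intro i
    obtain ⟨x, hxS, hx⟩ := (hstep i).2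
    have hci : c i.castSucc ≤ S := (hcl _).1
    haveI := subgroupOf_normal_of_stronglyClosed (hcl i.castSucc) (le_refl S)
    let f : P →* S ⧸ (c i.castSucc).subgroupOf S :=
      (QuotientGroup.mk' _).comp (Subgroup.inclusion hPS)
    have hker : f.ker = (c i.castSucc).subgroupOf P := by
      ext y
      exact QuotientGroup.eq_one_iff _
    have hle : ((c i.succ).subgroupOf P).map f ≤
        Subgroup.zpowers (QuotientGroup.mk' ((c i.castSucc).subgroupOf S) ⟨x, hxS⟩) := by
      rintro _ ⟨y, hy, rfl⟩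
      have h1 : Subgroup.inclusion hPS y ∈ (c i.castSucc).subgroupOf S ⊔
          (Subgroup.zpowers x).subgroupOf S := by
        rw [← Subgroup.subgroupOf_sup hci (Subgroup.zpowers_le.2 hxS), ← hx]
        exact hy
      have h2 : f y ∈ ((c i.castSucc).subgroupOf S ⊔ (Subgroup.zpowers x).subgroupOf S).map
          (QuotientGroup.mk' ((c i.castSucc).subgroupOf S)) := ⟨_, h1, rfl⟩
      rw [Subgroup.map_sup, QuotientGroup.map_mk'_self, bot_sup_eq] at h2
      obtain ⟨z, hz, hz'⟩ := h2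
      obtain ⟨k, hk⟩ := Subgroup.mem_zpowers_iff.1 hz
      exact Subgroup.mem_zpowers_iff.2 ⟨k, by
        rw [← hz', ← map_zpow]
        exact congrArg _ (Subtype.ext (by simpa using hk))⟩
    obtain ⟨z, hz⟩ := (Subgroup.isCyclic_iff_exists_zpowers_eq_top (H := ((c i.succ).subgroupOf P).map f)).1
      (isCyclic_of_injective (Subgroup.inclusion hle) (Subgroup.inclusion_injective hle))
    obtain ⟨y, hy, rfl⟩ : z ∈ ((c i.succ).subgroupOf P).map f := hz ▸ Subgroup.mem_zpowers z
    refine ⟨y, le_antisymm (fun w hw => ?_)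
      (sup_le (fun w hw => (hstep i).1 hw) (Subgroup.zpowers_le.2 hy))⟩
    obtain ⟨k, hk⟩ := Subgroup.mem_zpowers_iff.1 (hz.ge ⟨w, hw, rfl⟩)
    rw [← map_zpow] at hk
    have h3 : (y ^ k)⁻¹ * w ∈ f.ker := by
      rw [MonoidHom.mem_ker, map_mul, map_inv, hk, inv_mul_cancel]
    rw [hker] at h3
    have := mul_mem (Subgroup.mem_sup_right (S := (c i.castSucc).subgroupOf P)
      (Subgroup.zpow_mem _ (Subgroup.mem_zpowers y) k)) (Subgroup.mem_sup_left h3)
    rwa [mul_inv_cancel_left] at this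
  obtain ⟨K, hKn, hKp, hKall⟩ := exists_normal_pGroup_of_chain (G := F.autGroup P)
    (hS.to_le hPS) (fun i => (c i).subgroupOf P) (by simp [h0])
    (by rw [hlast]; exact Subgroup.subgroupOf_eq_top.2 hPS) hn hinv hstep'
  obtain ⟨g, hg, hgP⟩ := SetLike.exists_of_lt (lt_normalizerIn hS (lt_of_le_of_ne hPS hPne))
  refine hgP (mem_of_conjAut_mem_inn (centralizerIn_le_of_isCentric hP.1) hPS hg.1 hg.2 ?_)
  have hmem : conjAut P g hg.2 ∈ autInducedBy S P := conjAut_mem_autInducedBy hg.1 hg.2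
  obtain ⟨k, hk⟩ := isPGroup_autInducedBy hS P ⟨_, hmem⟩
  rw [← (isRadical_of_isEssential hS hF hP).2]
  exact ⟨⟨_, autInducedBy_le_autGroup F hPS hmem⟩, CfsgLib.Solvable.le_pCore hKn hKp
    (hKall _ k (Subtype.ext (congrArg Subtype.val hk :))), rfl⟩

/-- The step of the construction of an invariant chain. -/
theorem exists_invariant_step {X : Type*} [Group X] [Finite X] (hX : IsPGroup p X)
    {H : Subgroup (MulAut X)} (hab : IsMulCommutative H) (hexp : ∀ h ∈ H, h ^ (p - 1) = 1)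
    {U : Subgroup X} [hUn : U.Normal] (hU : ∀ h ∈ H, ∀ d ∈ U, h d ∈ U) (hne : U ≠ ⊤) :
    ∃ x, x ∉ U ∧ (U ⊔ Subgroup.zpowers x).Normal ∧
      ∀ h ∈ H, ∀ d ∈ U ⊔ Subgroup.zpowers x, h d ∈ U ⊔ Subgroup.zpowers x := by
  classical
  let mk := QuotientGroup.mk' U
  have : Nontrivial (X ⧸ U) := by
    rw [← Finite.one_lt_card_iff_nontrivial, ← Subgroup.index_eq_card]
    exact (Nat.two_le_iff _).2 ⟨Subgroup.index_ne_zero_of_finite, fun h => hne (Subgroup.index_eq_one.1 h)⟩
  let V₁ : Subgroup X :=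
    { carrier := {v | mk v ∈ Subgroup.center (X ⧸ U) ∧ mk v ^ p = 1}
      one_mem' := ⟨by rw [map_one]; exact one_mem _, by rw [map_one, one_pow]⟩
      mul_mem' := fun {a b} ha hb => ⟨by rw [map_mul]; exact mul_mem ha.1 hb.1, by
        rw [map_mul, Commute.mul_pow (Subgroup.mem_center_iff.1 hb.1 _), ha.2, hb.2, one_mul]⟩
      inv_mem' := fun {a} ha => ⟨by rw [map_inv]; exact inv_mem ha.1, by
        rw [map_inv, inv_pow, ha.2, inv_one]⟩ }
  have hUV₁ : U < V₁ := by
    refine lt_of_le_of_ne (fun u hu => ?_) fun he => ?_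
    · have : mk u = 1 := (QuotientGroup.eq_one_iff u).2 hu
      exact ⟨this ▸ one_mem _, by rw [this, one_pow]⟩
    · haveI := (hX.to_quotient U).center_nontrivial
      obtain ⟨k, hk, hk'⟩ := ((hX.to_quotient U).to_subgroup
        (Subgroup.center (X ⧸ U))).nontrivial_iff_card.1 inferInstance
      obtain ⟨z, hz⟩ := exists_prime_orderOf_dvd_card' (G := Subgroup.center (X ⧸ U)) p
        (by rw [hk']; exact dvd_pow_self p hk.ne')
      obtain ⟨w, hw⟩ := QuotientGroup.mk'_surjective U (z : X ⧸ U)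
      have hwV : w ∈ V₁ := ⟨by show mk w ∈ _; rw [hw]; exact z.2, by
        show mk w ^ p = 1
        rw [hw, ← Subgroup.coe_pow, ← hz, pow_orderOf_eq_one]; rfl⟩
      rw [← he, ← QuotientGroup.eq_one_iff] at hwV
      have : z = 1 := Subtype.ext (hw.symm.trans hwV)
      rw [this, orderOf_one] at hz
      exact (Fact.out : p.Prime).one_lt.ne hz
  let indh : (h : MulAut X) → (∀ d ∈ U, h d ∈ U) → (X ⧸ U →* X ⧸ U) := fun h hh =>
    QuotientGroup.map U U h.toMonoidHom hh
  have hV₁inv : ∀ h ∈ H, ∀ v ∈ V₁, h v ∈ V₁ := by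
    intro h hh v hv
    refine ⟨?_, ?_⟩
    · rw [Subgroup.mem_center_iff]
      intro g
      obtain ⟨y, rfl⟩ := QuotientGroup.mk'_surjective U g
      have := congrArg (indh h (hU h hh)) (Subgroup.mem_center_iff.1 hv.1 (mk (h⁻¹ y)))
      simpa [indh, mk] using this
    · have := congrArg (indh h (hU h hh)) hv.2
      rw [map_pow, map_one] at this
      exact this
  obtain ⟨V, hV⟩ : ∃ V, Minimal (fun V : Subgroup X => U < V ∧ V ≤ V₁ ∧ ∀ h ∈ H, ∀ v ∈ V, h v ∈ V) V :=
    Set.Finite.exists_minimal (Set.toFinite {V : Subgroup X | U < V ∧ V ≤ V₁ ∧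
      ∀ h ∈ H, ∀ v ∈ V, h v ∈ V}) ⟨V₁, hUV₁, le_rfl, hV₁inv⟩
  obtain ⟨hUV, hVV₁, hVinv⟩ := hV.1
  have hscalar : ∀ h ∈ H, ∃ c : ℕ, ∀ v ∈ V, mk (h v) = mk v ^ c := by
    intro h hh
    let W : Subgroup (X ⧸ U) := V₁.map mk
    have hWc : ∀ a b : W, a * b = b * a := by
      rintro ⟨_, v, hv, rfl⟩ ⟨_, w, hw, rfl⟩
      exact Subtype.ext (Subgroup.mem_center_iff.1 hw.1 _)
    letI : CommGroup W := { (inferInstance : Group W) with mul_comm := hWc }
    let f : W →* W := ((indh h (hU h hh)).comp W.subtype).codRestrict W (by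
      rintro ⟨_, v, hv, rfl⟩
      exact ⟨h v, hV₁inv h hh v hv, rfl⟩)
    have hexpW : ∀ a : W, a ^ p = 1 := by
      rintro ⟨_, v, hv, rfl⟩
      exact Subtype.ext hv.2
    have hfn : ∀ (n : ℕ) (a : W) (v : X), (a : X ⧸ U) = mk v →
        ((f^[n] a : W) : X ⧸ U) = mk ((h ^ n) v) := by
      intro n
      induction n with
      | zero => intro a v e; exact e
      | succ n ih =>
        intro a v e
        rw [Function.iterate_succ_apply', pow_succ', MulAut.mul_apply]
        show indh h (hU h hh) ((f^[n] a : W) : X ⧸ U) = _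
        rw [ih a v e]
        rfl
    have hf : ∀ a : W, f^[p - 1] a = a := by
      rintro ⟨_, v, hv, rfl⟩
      refine Subtype.ext ((hfn _ _ v rfl).trans ?_)
      rw [hexp h hh]
      rfl
    obtain ⟨v₀, hv₀, hv₀U⟩ := SetLike.exists_of_lt hUV
    obtain ⟨c, a, haW, ha0, hac⟩ := exists_eigen_mul hexpW f hf ((V.map mk).subgroupOf W)
      (w := ⟨mk v₀, v₀, hVV₁ hv₀, rfl⟩) ⟨v₀, hv₀, rfl⟩ (fun e => hv₀U (by
        rw [← QuotientGroup.eq_one_iff]
        exact congrArg Subtype.val e)) (by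
        rintro a ⟨v, hv, hva⟩
        refine ⟨h v, hVinv h hh v hv, ?_⟩
        exact congrArg (indh h (hU h hh)) hva)
    refine ⟨c, ?_⟩
    let V' : Subgroup X :=
      { carrier := {v | v ∈ V ∧ mk (h v) = mk v ^ c}
        one_mem' := ⟨one_mem _, by rw [map_one, map_one, one_pow]⟩
        mul_mem' := fun {x y} hx hy => ⟨mul_mem hx.1 hy.1, by
          rw [map_mul, map_mul, map_mul, hx.2, hy.2,
            Commute.mul_pow (Subgroup.mem_center_iff.1 (hVV₁ hy.1).1 _)]⟩
        inv_mem' := fun {x} hx => ⟨inv_mem hx.1, by rw [map_inv, map_inv, map_inv, hx.2, inv_pow]⟩ }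
    obtain ⟨v, hv, hva⟩ := haW
    have hvmem : v ∈ V' := by
      refine ⟨hv, ?_⟩
      have h1 : indh h (hU h hh) (a : X ⧸ U) = (a : X ⧸ U) ^ c :=
        (congrArg Subtype.val hac :)
      have h4 : (a : X ⧸ U) = mk v := hva.symm
      rw [h4] at h1
      exact h1
    have hV' : U < V' := by
      refine lt_of_le_of_ne (fun u hu => ⟨hUV.le hu, ?_⟩) fun he => ?_
      · rw [show mk u = 1 from (QuotientGroup.eq_one_iff u).2 hu, one_pow]
        exact (QuotientGroup.eq_one_iff _).2 (hU h hh u hu)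
      · rw [← he, ← QuotientGroup.eq_one_iff] at hvmem
        exact ha0 (Subtype.ext (hva.symm.trans hvmem))
    have hinv' : ∀ k ∈ H, ∀ x ∈ V', k x ∈ V' := by
      intro k hk x hx
      refine ⟨hVinv k hk x hx.1, ?_⟩
      have hcomm : h (k x) = k (h x) := by
        haveI := hab
        exact congrArg (fun g : H => (g : MulAut X) x)
          (mul_comm' (⟨h, hh⟩ : H) ⟨k, hk⟩)
      rw [hcomm]
      have := congrArg (indh k (hU k hk)) hx.2
      rw [map_pow] at this
      exact this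
    intro x hx
    exact ((hV.2 ⟨hV', fun x hx => hVV₁ hx.1, hinv'⟩ (fun x hx => hx.1)) hx).2
  obtain ⟨x, hx, hxU⟩ := SetLike.exists_of_lt hUV
  refine ⟨x, hxU, ⟨fun d hd g => ?_⟩, fun h hh d hd => ?_⟩
  · have hdV : d ∈ V₁ := hVV₁ (sup_le hUV.le (Subgroup.zpowers_le.2 hx) hd)
    have : d⁻¹ * (g * d * g⁻¹) ∈ U := by
      rw [← QuotientGroup.eq_one_iff]
      show mk _ = 1
      rw [map_mul, map_mul, map_mul, map_inv, map_inv, Subgroup.mem_center_iff.1 hdV.1 (mk g)]
      group
    have := mul_mem hd (Subgroup.mem_sup_left (T := Subgroup.zpowers x) this)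
    rwa [mul_inv_cancel_left] at this
  · obtain ⟨c, hc⟩ := hscalar h hh
    have hdV : d ∈ V := sup_le hUV.le (Subgroup.zpowers_le.2 hx) hd
    obtain ⟨u, hu, hu'⟩ := (QuotientGroup.mk'_eq_mk' U).1 ((hc d hdV).trans (map_pow mk d c).symm).symm
    rw [← hu']
    exact mul_mem (pow_mem hd c) (Subgroup.mem_sup_left hu)

/-- If `S` is normal and coprime automorphism groups are abelian of exponent dividing `p - 1` the
system is supersoluble. -/
theorem isSupersoluble_of_isNormal [Finite S] (hS : IsPGroup p S) {F : Cfsg.FusionSystem S}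
    (hF : F.IsSaturated p) (hN : F.IsNormal S)
    (hH : ∀ H : Subgroup (MulAut S), (Nat.card H).Coprime p →
      IsMulCommutative H ∧ ∀ h ∈ H, h ^ (p - 1) = 1) : IsSupersoluble F := by
  classical
  haveI : Finite (MulAut S) := finite_mulAut
  obtain ⟨-, T, hT⟩ := isFullyAutomized_of_isFullyNormalized hS hF (isFullyNormalized_top F)
  rw [← inn_eq_autInducedBy] at hT
  set N := (Cfsg.Inn S).subgroupOf (F.autGroup S) with hNdef
  haveI : N.Normal := inn_subgroupOf_normal F S
  obtain ⟨a, ha⟩ := IsPGroup.iff_card.1 (show IsPGroup p N from hT ▸ T.2)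
  have hidx : (N.index).Coprime p := by
    rw [Nat.coprime_comm, (Fact.out : p.Prime).coprime_iff_not_dvd]
    exact hT ▸ T.not_dvd_index
  obtain ⟨K, hK⟩ := Subgroup.exists_right_complement'_of_coprime (N := N)
    (by rw [ha]; exact (hidx.symm).pow_left a)
  let H : Subgroup (MulAut S) := K.map (F.autGroup S).subtype
  have hHcard : (Nat.card H).Coprime p := by
    rw [Subgroup.card_map_of_injective (F.autGroup S).subtype_injective,
      ← hK.symm.index_eq_card]
    exact hidx
  obtain ⟨hab, hexp⟩ := hH H hHcard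
  have step : ∀ U : Subgroup S, (U.Normal ∧ ∀ h ∈ H, ∀ d ∈ U, h d ∈ U) →
      ∃ x : S, (U ≠ ⊤ → x ∉ U) ∧ (U ⊔ Subgroup.zpowers x).Normal ∧
        ∀ h ∈ H, ∀ d ∈ U ⊔ Subgroup.zpowers x, h d ∈ U ⊔ Subgroup.zpowers x := by
    rintro U ⟨hUn, hU⟩
    by_cases hne : U = ⊤
    · refine ⟨1, fun h => absurd hne h, ?_, ?_⟩
      · rw [Subgroup.zpowers_one_eq_bot, sup_bot_eq]; exact hUn
      · rw [Subgroup.zpowers_one_eq_bot, sup_bot_eq]; exact hU
    · haveI := hUn
      obtain ⟨x, h1, h2, h3⟩ := exists_invariant_step hS hab hexp hU hne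
      exact ⟨x, fun _ => h1, h2, h3⟩
  choose f hf1 hf2 hf3 using step
  let s : ℕ → {U : Subgroup S // U.Normal ∧ ∀ h ∈ H, ∀ d ∈ U, h d ∈ U} := fun n =>
    n.rec ⟨⊥, inferInstance, fun h _ d hd => by
      rw [Subgroup.mem_bot] at hd ⊢; rw [hd, map_one]⟩
      fun _ U => ⟨U.1 ⊔ Subgroup.zpowers (f U.1 U.2), hf2 U.1 U.2, hf3 U.1 U.2⟩
  have hgrow : ∀ n, (s n).1 = ⊤ ∨ n < Nat.card (s n).1 := by
    intro n
    induction n with
    | zero => right; exact Nat.card_pos
    | succ n ih =>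
      by_cases htop : (s n).1 = ⊤
      · left
        exact top_le_iff.1 (htop.ge.trans le_sup_left)
      · right
        have hlt : (s n).1 < (s (n + 1)).1 := lt_of_le_of_ne le_sup_left fun he =>
          hf1 _ (s n).2 htop (he.ge (Subgroup.mem_sup_right (Subgroup.mem_zpowers _)))
        have h1 : Nat.card (s n).1 < Nat.card (s (n + 1)).1 :=
          lt_of_not_ge fun hge => hlt.ne (Subgroup.eq_of_le_of_card_ge hlt.le hge)
        have := ih.resolve_left htop
        omega
  have htop : (s (Nat.card S)).1 = ⊤ := by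
    rcases hgrow (Nat.card S) with h | h
    · exact h
    · have := Subgroup.card_le_card_group (s (Nat.card S)).1
      omega
  refine ⟨Nat.card S, fun i => (s i).1.map S.subtype, ?_, ?_, fun i => ?_, fun i => ⟨?_, ?_⟩⟩
  · show (⊥ : Subgroup S).map S.subtype = ⊥
    rw [Subgroup.map_bot]
  · show (s (Nat.card S)).1.map S.subtype = S
    rw [htop, ← MonoidHom.range_eq_map, Subgroup.range_subtype]
  · refine stronglyClosed_of_invariant hN (Subgroup.map_subtype_le _) fun α hα t ht => ?_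
    obtain ⟨t', ht', he⟩ := ht
    obtain rfl : t' = t := Subtype.ext he
    have hmem : (⟨α, hα⟩ : F.autGroup S) ∈ ((N ⊔ K : Subgroup (F.autGroup S)) : Set (F.autGroup S)) := by
      rw [hK.sup_eq_top]; exact Subgroup.mem_top _
    rw [Subgroup.normal_mul] at hmem
    obtain ⟨n, hn, k, hk, hnk⟩ := hmem
    obtain ⟨y, hy⟩ := hn
    have hk' := (s i).2.2 (k : MulAut S) ⟨k, hk, rfl⟩ t' ht'
    refine ⟨α t', ?_, rfl⟩
    have e : α = (n : MulAut S) * (k : MulAut S) := (congrArg Subtype.val hnk).symm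
    have hy' : MulAut.conj y = (n : MulAut S) := hy
    rw [e, ← hy', MulAut.mul_apply]
    exact (s i).2.1.conj_mem _ hk' y
  · exact Subgroup.map_mono le_sup_left
  · refine ⟨(f _ (s i).2 : S), (f _ (s i).2).2, ?_⟩
    show ((s i).1 ⊔ Subgroup.zpowers (f _ (s i).2)).map S.subtype = _
    rw [Subgroup.map_sup, MonoidHom.map_zpowers]
    rfl

/-- If every saturated system over `S` is supersoluble, coprime automorphism groups are abelian of
exponent dividing `p - 1`. -/
theorem abelian_exponent_of_forall [Finite S] (hS : IsPGroup p S)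
    (h : ∀ F : Cfsg.FusionSystem S, F.IsSaturated p → IsSupersoluble F)
    (H : Subgroup (MulAut S)) (hH : (Nat.card H).Coprime p) :
    IsMulCommutative H ∧ ∀ a ∈ H, a ^ (p - 1) = 1 := by
  haveI : Finite (MulAut S) := finite_mulAut
  haveI := inn_normal S
  set A := Cfsg.Inn S ⊔ H with hA
  haveI : ((Cfsg.Inn S).subgroupOf A).Normal := (inn_normal S).subgroupOf _
  have hsat : (autSystem S A le_sup_left).IsSaturated p := by
    refine isSaturated_autSystem hS fun hdvd => ?_
    let f : H →* A ⧸ (Cfsg.Inn S).subgroupOf A :=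
      (QuotientGroup.mk' _).comp (Subgroup.inclusion le_sup_right)
    have hf : Function.Surjective f := by
      intro q
      obtain ⟨a, rfl⟩ := QuotientGroup.mk'_surjective _ q
      have ha : (a : MulAut S) ∈ ((Cfsg.Inn S ⊔ H : Subgroup (MulAut S)) : Set (MulAut S)) := a.2
      rw [Subgroup.normal_mul] at ha
      obtain ⟨n, hn, k, hk, hnk⟩ := ha
      refine ⟨⟨k, hk⟩, (QuotientGroup.eq.2 ?_)⟩
      show (k : MulAut S)⁻¹ * (a : MulAut S) ∈ Cfsg.Inn S
      rw [← hnk]
      simpa [mul_assoc] using (inn_normal S).conj_mem n hn (k : MulAut S)⁻¹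
    rw [Subgroup.index_eq_card] at hdvd
    exact (Fact.out : p.Prime).coprime_iff_not_dvd.1 hH.symm
      (hdvd.trans (Subgroup.card_dvd_of_surjective f hf))
  obtain ⟨m, c, h0, hlast, hcl, hstep⟩ := h _ hsat
  refine abelian_exponent_of_chain hS hH (fun i => (c i).subgroupOf S) (by simp [h0])
    (by rw [hlast]; exact Subgroup.subgroupOf_self S)
    (fun i => subgroupOf_normal_of_stronglyClosed (hcl i) le_rfl) ?_ fun i => ?_
  · intro a ha i d hd
    exact invariant_of_stronglyClosed (hcl i)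
      (by rw [autGroup_autSystem]; exact Subgroup.mem_sup_right ha) hd
  · obtain ⟨x, hxS, hx⟩ := (hstep i).2
    refine ⟨⟨x, hxS⟩, ?_⟩
    rw [hx, Subgroup.subgroupOf_sup (hcl _).1 (Subgroup.zpowers_le.2 hxS)]
    congr 1
    ext y
    rw [Subgroup.mem_subgroupOf, Subgroup.mem_zpowers_iff, Subgroup.mem_zpowers_iff]
    exact exists_congr fun k => by rw [Subtype.ext_iff, Subgroup.coe_zpow]

end CfsgLib.FusionAut
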